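import Groth.Agent.KTheory.PerfK0

/-!
`K₀` of an exact subcategory and of its bounded complexes in the derived category, when morphisms in
the derived category are roofs of such complexes.
-/

set_option autoImplicit false
set_option linter.unusedSectionVars false
universe w v u

open CategoryTheory CategoryTheory.Limits CategoryTheory.Pretriangulated
open scoped ZeroObject

namespace Groth.KVectPerf

open Groth.KTheory
open Groth.KTheory.PerfK0 (chi Good Perf finite_support chi_eq_sum chi_of_exact' chi_mappingCone)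

variable {C : Type u} [Category.{v} C] [Abelian C] {P : ObjectProperty C} [P.IsClosedUnderIsomorphisms]

section Derived

variable [HasDerivedCategory.{w} C]

/-- morphisms in the derived category are roofs of good complexes -/
def Roofs : Prop :=
  ∀ (E F : CochainComplex C ℤ), Good P E → Good P F →
    ∀ α : DerivedCategory.Q.obj E ⟶ DerivedCategory.Q.obj F,
      ∃ (G : CochainComplex C ℤ) (g : G ⟶ E) (h : G ⟶ F), Good P G ∧ QuasiIso g ∧
        DerivedCategory.Q.map g ≫ α = DerivedCategory.Q.map h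

variable (hroof : Roofs (P := P))
  (hker : ∀ {X Y : C} (f : X ⟶ Y), Epi f → P X → P Y → P (kernel f))
  (hzero : ∀ X, IsZero X → P X) (hbi : ∀ X Y, P X → P Y → P (X ⊞ Y))

include hker hzero in
theorem chi_of_isZero {E : CochainComplex C ℤ} (hE : Good P E)
    (h : IsZero (DerivedCategory.Q.obj E)) : chi P E = 0 :=
  chi_of_exact' hker hzero hE fun i => (E.exactAt_iff_isZero_homology i).2
    (((DerivedCategory.homologyFunctor C i).map_isZero h).of_iso
      ((DerivedCategory.homologyFunctorFactors C i).app E).symm)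

include hker hzero hbi in
theorem chi_eq_of_qiso {E F : CochainComplex C ℤ} (hE : Good P E) (hF : Good P F) (f : E ⟶ F)
    [hf : IsIso (DerivedCategory.Q.map f)] : chi P E = chi P F := by
  obtain ⟨hc, hχ⟩ := chi_mappingCone hbi hE hF f
  have hT := DerivedCategory.mappingCone_triangle_distinguished (φ := f)
  have : IsIso (DerivedCategory.Q.mapTriangle.obj (CochainComplex.mappingCone.triangle f)).mor₁ := hf
  have hz := chi_of_isZero hker hzero hc (Pretriangulated.Triangle.isZero₃_of_isIso₁ _ hT this)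
  rw [hχ, sub_eq_zero] at hz
  exact hz.symm

include hroof hker hzero hbi in
theorem chi_eq_of_iso {E F : CochainComplex C ℤ} (hE : Good P E) (hF : Good P F)
    (e : DerivedCategory.Q.obj E ≅ DerivedCategory.Q.obj F) : chi P E = chi P F := by
  obtain ⟨G, g, h, hG, hg, he⟩ := hroof E F hE hF e.hom
  haveI : IsIso (DerivedCategory.Q.map g) := (DerivedCategory.isIso_Q_map_iff_quasiIso _ _).2 hg
  haveI : IsIso (DerivedCategory.Q.map h) := by rw [← he]; infer_instance
  rw [← chi_eq_of_qiso hker hzero hbi hG hE g, chi_eq_of_qiso hker hzero hbi hG hF h]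

variable (P) in
open Classical in
/-- The Euler characteristic on perfect objects. -/
noncomputable def chiD (K : DerivedCategory C) : KZero.K0sub P :=
  if h : Perf P K then chi P h.choose else 0

include hroof hker hzero hbi in
theorem chiD_eq {E : CochainComplex C ℤ} (hE : Good P E) {K : DerivedCategory C}
    (e : DerivedCategory.Q.obj E ≅ K) : chiD P K = chi P E := by
  have h : Perf P K := ⟨E, hE, ⟨e⟩⟩
  rw [chiD, dif_pos h]
  exact chi_eq_of_iso hroof hker hzero hbi h.choose_spec.1 hE (h.choose_spec.2.some ≪≫ e.symm)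

include hroof hker hzero hbi in
theorem chiD_triangle (T : Triangle (DerivedCategory C)) (hT : T ∈ distinguishedTriangles)
    (h₁ : Perf P T.obj₁) (h₂ : Perf P T.obj₂) :
    chiD P T.obj₂ = chiD P T.obj₁ + chiD P T.obj₃ := by
  obtain ⟨E, hE, ⟨e₁⟩⟩ := h₁
  obtain ⟨F, hF, ⟨e₂⟩⟩ := h₂
  obtain ⟨G, g, f, hG, hg, hf⟩ := hroof E F hE hF (e₁.hom ≫ T.mor₁ ≫ e₂.inv)
  haveI : IsIso (DerivedCategory.Q.map g) := (DerivedCategory.isIso_Q_map_iff_quasiIso _ _).2 hg
  obtain ⟨hc, hχ⟩ := chi_mappingCone hbi hG hF f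
  let e₁' := asIso (DerivedCategory.Q.map g) ≪≫ e₁
  let i := Pretriangulated.isoTriangleOfIso₁₂ _ _
    (DerivedCategory.mappingCone_triangle_distinguished (φ := f)) hT e₁' e₂
    (by change DerivedCategory.Q.map f ≫ e₂.hom = e₁'.hom ≫ T.mor₁; simp [← hf, e₁'])
  rw [chiD_eq hroof hker hzero hbi hF e₂, chiD_eq hroof hker hzero hbi hG e₁',
    chiD_eq hroof hker hzero hbi hc (K := T.obj₃) (Triangle.π₃.mapIso i), hχ, add_sub_cancel]

include hzero in
theorem perf_single {X : C} (hX : P X) (n : ℤ) :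
    Good P ((HomologicalComplex.single C (ComplexShape.up ℤ) n).obj X) ∧
      Perf P ((DerivedCategory.singleFunctor C n).obj X) := by
  have h : Good P ((HomologicalComplex.single C (ComplexShape.up ℤ) n).obj X) := by
    refine ⟨fun i => ?_, n, n, fun i hi =>
      HomologicalComplex.isZero_single_obj_X _ _ _ _ (by omega)⟩
    rcases eq_or_ne i n with rfl | hi
    · exact P.prop_of_iso (HomologicalComplex.singleObjXSelf _ _ _).symm hX
    · exact hzero _ (HomologicalComplex.isZero_single_obj_X _ _ _ _ hi)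
  exact ⟨h, _, h, ⟨((DerivedCategory.singleFunctorIsoCompQ C n).app X).symm⟩⟩

include hroof hker hzero hbi in
theorem chiD_single {X : C} (hX : P X) :
    chiD P ((DerivedCategory.singleFunctor C 0).obj X) = KZero.clSub P X := by
  obtain ⟨hS, -⟩ := perf_single hzero hX 0
  rw [chiD_eq hroof hker hzero hbi hS
    ((DerivedCategory.singleFunctorIsoCompQ C 0).app X).symm,
    chi_eq_sum hS.1 0 0 fun i hi => HomologicalComplex.isZero_single_obj_X _ _ _ _ (by omega)]
  simp only [Finset.Icc_self, Finset.sum_singleton, Int.negOnePow_zero, Units.val_one, one_smul]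
  exact clSub_iso (HomologicalComplex.singleObjXSelf _ _ _) (hS.1 0) hX (isZero_zero C)
    (hzero _ (isZero_zero C))

section Equiv

variable (Q : ObjectProperty (DerivedCategory C)) (hQ : ∀ K, Q K ↔ Perf P K)
  (hext : ∀ T : Triangle (DerivedCategory C), T ∈ distinguishedTriangles →
    Q T.obj₁ → Q T.obj₃ → Q T.obj₂)
  (hshift : ∀ K (n : ℤ), Q K → Q (K⟦n⟧))

include hroof hker hzero hbi hQ hext hshift in
/-- `K₀(P) ≅ K₀(perfect objects)`. -/
theorem exists_equiv :
    ∃ φ : KZero.K0sub P ≃+ KZero.K0tr Q,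
      (∀ X, P X → φ (KZero.clSub P X) =
        KZero.clTr Q ((DerivedCategory.singleFunctor C 0).obj X)) ∧
      ∀ (E : CochainComplex C ℤ) (a b : ℤ), (∀ i, P (E.X i)) →
        (∀ i, i < a ∨ b < i → IsZero (E.X i)) →
        φ.symm (KZero.clTr Q (DerivedCategory.Q.obj E)) =
          ∑ i ∈ Finset.Icc a b, (i.negOnePow : ℤ) • KZero.clSub P (E.X i) := by
  have hs : ∀ X, P X → ∀ n, Q ((DerivedCategory.singleFunctor C n).obj X) :=
    fun X hX n => (hQ _).2 (perf_single hzero hX n).2
  let F : KZero.K0sub P →+ KZero.K0tr Q :=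
    liftSub P (fun X => KZero.clTr Q ((DerivedCategory.singleFunctor C 0).obj X))
      fun S hS h₁ h₂ h₃ => clTr_rel hS.singleTriangle hS.singleTriangle_distinguished
        (hs _ h₁ 0) (hs _ h₂ 0) (hs _ h₃ 0)
  let G : KZero.K0tr Q →+ KZero.K0sub P :=
    liftTr Q (chiD P) fun T hT h₁ h₂ _ =>
      chiD_triangle hroof hker hzero hbi T hT ((hQ _).1 h₁) ((hQ _).1 h₂)
  have hF : ∀ X, P X → F (KZero.clSub P X) =
      KZero.clTr Q ((DerivedCategory.singleFunctor C 0).obj X) := fun X hX => liftSub_clSub _ _ hX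
  have hGF : G.comp F = AddMonoidHom.id _ := k0sub_hom_ext fun X hX => by
    rw [AddMonoidHom.comp_apply, hF X hX, liftTr_clTr _ _ (hs X hX 0),
      chiD_single hroof hker hzero hbi hX]
    rfl
  let Z : DerivedCategory C := (DerivedCategory.singleFunctor C 0).obj (0 : C)
  have hZ : IsZero Z := Functor.map_isZero _ (isZero_zero C)
  have hQZ : Q Z := hs _ (hzero _ (isZero_zero C)) 0
  have htr : ∀ K L, (K ≅ L) → Q K → Q L := fun K L e h => by
    obtain ⟨E, hE, ⟨e'⟩⟩ := (hQ K).1 h
    exact (hQ L).2 ⟨E, hE, ⟨e' ≪≫ e⟩⟩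
  have hmem : ∀ K, Q K → KZero.clTr Q K ∈ F.range := by
    intro K hK
    obtain ⟨E, ⟨hE, a, b, hb⟩, ⟨e⟩⟩ := (hQ K).1 hK
    have key := Groth.DAlg.bounded_induction
      (fun L => Q L ∧ KZero.clTr Q L ∈ F.range)
      (fun L M e h => ⟨htr L M e h.1, by rw [← clTr_iso e h.1 (htr L M e h.1) hZ hQZ]; exact h.2⟩)
      (fun T hT h₁ h₃ => ⟨hext T hT h₁.1 h₃.1, by
        rw [clTr_rel T hT h₁.1 (hext T hT h₁.1 h₃.1) h₃.1]
        exact add_mem h₁.2 h₃.2⟩)
      (fun L hL => ⟨htr _ _ (hZ.iso hL) hQZ, by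
        rw [clTr_zero hL (htr _ _ (hZ.iso hL) hQZ)]; exact zero_mem _⟩) E a b hb
      fun i => ⟨hs _ (hE i) i, by
        let M := (DerivedCategory.singleFunctor C 0).obj (E.X i)
        have hM : ∀ n : ℤ, KZero.clTr Q (M⟦n⟧) ∈ F.range := by
          have step : ∀ n : ℤ, KZero.clTr Q (M⟦n + 1⟧) = - KZero.clTr Q (M⟦n⟧) := fun n => by
            have h1 := hshift M n (hs _ (hE i) 0)
            have h2 := hshift _ 1 h1
            rw [← clTr_shift h1 h2 hZ hQZ]
            exact clTr_iso ((shiftFunctorAdd' (DerivedCategory C) n 1 (n + 1) rfl).app M)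
              (hshift M _ (hs _ (hE i) 0)) h2 hZ hQZ
          have h0 : KZero.clTr Q (M⟦(0 : ℤ)⟧) ∈ F.range := by
            rw [clTr_iso ((shiftFunctorZero (DerivedCategory C) ℤ).app M)
              (hshift M 0 (hs _ (hE i) 0)) (hs _ (hE i) 0) hZ hQZ]
            exact ⟨_, hF _ (hE i)⟩
          intro n
          induction n using Int.induction_on with
          | zero => exact h0
          | succ k ih => rw [step]; exact neg_mem ih
          | pred k ih =>
            have h := step (-(k : ℤ) - 1)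
            rw [sub_add_cancel] at h
            rw [show KZero.clTr Q (M⟦(-(k : ℤ) - 1)⟧) = - KZero.clTr Q (M⟦(-(k : ℤ))⟧) by
              rw [h, neg_neg]]
            exact neg_mem ih
        rw [← clTr_iso (((DerivedCategory.singleFunctors C).shiftIso (-i) i 0 (by omega)).app
          (E.X i)) (hshift M (-i) (hs _ (hE i) 0)) (hs _ (hE i) i) hZ hQZ]
        exact hM _⟩
    rw [← clTr_iso e key.1 hK hZ hQZ]
    exact key.2
  have hsurj : Function.Surjective F := fun x => by
    induction x using k0tr_induction with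
    | h0 => exact ⟨0, map_zero F⟩
    | hcl K hK => exact hmem K hK
    | hadd a b ha hb =>
      obtain ⟨y, rfl⟩ := ha
      obtain ⟨z, rfl⟩ := hb
      exact ⟨y + z, map_add F y z⟩
    | hneg a ha =>
      obtain ⟨y, rfl⟩ := ha
      exact ⟨-y, map_neg F y⟩
  refine ⟨AddEquiv.ofBijective F ⟨Function.LeftInverse.injective (g := G)
    fun x => congr($hGF x), hsurj⟩, hF, fun E a b hE hb => ?_⟩
  have hG : G (KZero.clTr Q (DerivedCategory.Q.obj E)) = chi P E := by
    have hgood : Good P E := ⟨hE, a, b, hb⟩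
    rw [liftTr_clTr _ _ ((hQ _).2 ⟨E, hgood, ⟨Iso.refl _⟩⟩)]
    exact chiD_eq hroof hker hzero hbi hgood (Iso.refl _)
  rw [← chi_eq_sum hE a b hb, ← hG, AddEquiv.symm_apply_eq]
  obtain ⟨y, hy⟩ := hsurj (KZero.clTr Q (DerivedCategory.Q.obj E))
  rw [← hy]
  exact congrArg F congr($hGF y).symm

end Equiv

end Derived

end Groth.KVectPerf
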