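import Groth.Agent.KVectPerf.Generic
import Groth.Agent.DerivedCoh.Fibre.Concentrated
import Groth.Agent.LocFree.SES
import Groth.Agent.KTheory.LocFree
import Groth.Agent.KTheory.Perf
import Groth.Agent.S1036
import Groth.Agent.S1037

/-!
`K₀(Vect) ≅ K₀(Perf)` with the resolution property.
-/

set_option autoImplicit false

universe u

open CategoryTheory CategoryTheory.Limits AlgebraicGeometry

attribute [local instance] HasDerivedCategory.standard

namespace Groth.KVectPerf

open Groth.KTheory.PerfK0 (Good Perf)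

variable {X : Scheme.{u}}

/-- finite locally free modules -/
abbrev vectProp (X : Scheme.{u}) : ObjectProperty X.Modules := fun M => FlatMod.IsFinLocFree M

instance : (vectProp X).IsClosedUnderIsomorphisms :=
  ⟨fun e h => Groth.KTheory.LocFree.isFinLocFree_of_iso e h⟩

theorem good_iff (E : CochainComplex X.Modules ℤ) :
    Good (vectProp X) E ↔ DCoh.IsStrictlyPerfect E :=
  ⟨fun ⟨h, a, b, hb⟩ => ⟨⟨a, b, hb⟩, h⟩, fun ⟨⟨a, b, hb⟩, h⟩ => ⟨h, a, b, hb⟩⟩

theorem exists_equiv_perfect [CompactSpace ↥X] [QuasiSeparatedSpace ↥X]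
    (hX : PerfAux.HasResolutionProperty X) :
    ∃ φ : KZero.K0sub (vectProp X) ≃+ KZero.K0tr (fun K : DCoh.D X => DCoh.IsPerfect K),
      ∀ E : X.Modules, FlatMod.IsFinLocFree E →
        φ (KZero.clSub (vectProp X) E) =
          KZero.clTr (fun K : DCoh.D X => DCoh.IsPerfect K) (DCoh.inD X E) := by
  obtain ⟨φ, hφ, -⟩ := Groth.KVectPerf.exists_equiv (P := vectProp X)
    (hroof := fun E F hE hF α => by
      obtain ⟨G, g, h, hG, hg, he⟩ :=
        Groth.Agent.S1037.result X hX E F ((good_iff E).1 hE) ((good_iff F).1 hF) α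
      exact ⟨G, g, h, (good_iff G).2 hG, hg, he⟩)
    (hker := fun {A B} f hf hA hB => Groth.LocFree.isFinLocFree_left
      (S := ShortComplex.mk (kernel.ι f) f (kernel.condition f))
      { exact := ShortComplex.exact_of_f_is_kernel _ (kernelIsKernel f)
        mono_f := inferInstance
        epi_g := hf } hA hB)
    (hzero := fun M hM => Groth.KTheory.LocFree.isFinLocFree_zero hM)
    (hbi := fun M N hM hN => Groth.KTheory.LocFree.isFinLocFree_biprod hM hN)
    (fun K : DCoh.D X => DCoh.IsPerfect K)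
    (fun K => ⟨fun hK => by
      obtain ⟨E, hE, he⟩ := Groth.Agent.S1036.result X hX K hK
      exact ⟨E, (good_iff E).2 hE, he⟩, fun ⟨E, hE, ⟨e⟩⟩ =>
        Groth.KTheory.Perf.isPerfect_of_iso e (Groth.DerivedCoh.Fibre.isPerfect_toD ((good_iff E).1 hE))⟩)
    (fun T hT h₁ h₃ => Groth.KTheory.Perf.isPerfect_obj₂ T hT h₁ h₃)
    (fun K n h => Groth.KTheory.Perf.isPerfect_shift h n)
  exact ⟨φ, hφ⟩

end Groth.KVectPerf
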